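import Groth.Agent.AssLib.FlatFibre
import Groth.Agent.H23.CapSheaf
import Groth.Agent.LenIneq5.Apply
import Groth.Agent.QCoh.Stalk
import Groth.Agent.QCoh.Support
import Groth.Agent.Codepth5.Scheme

/-!
# Lengths of stalks of a module on the fibres over a DVR
-/

set_option autoImplicit false
set_option linter.style.haveILetI false

universe u

open AlgebraicGeometry CategoryTheory IsLocalRing TopologicalSpace
open scoped Pointwise

namespace Groth.Agent.H1SumLen

open Groth.Agent CDiv6

/-- The maximal ideal is associated to `M / tM` if it is minimal over `p + (t)`, `p` associated to `M`. -/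
theorem max_mem_associatedPrimes {R M : Type u} [CommRing R] [IsNoetherianRing R] [IsLocalRing R]
    [AddCommGroup M] [Module R M] [Module.Finite R M] {t : R} (ht : t ∈ maximalIdeal R)
    (hreg : IsSMulRegular M t) {p : Ideal R} (hp : p ∈ associatedPrimes R M)
    (hmin : ∀ q : Ideal R, q.IsPrime → p ≤ q → t ∈ q → q = maximalIdeal R) :
    maximalIdeal R ∈ associatedPrimes R (M ⧸ Ideal.span {t} • (⊤ : Submodule R M)) := by
  let N : Submodule R M :=
    { carrier := {x | ∀ a ∈ p, a • x = 0}
      add_mem' := fun {x y} hx hy a ha => by rw [smul_add, hx a ha, hy a ha, add_zero]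
      zero_mem' := fun a _ => smul_zero a
      smul_mem' := fun c x hx a ha => by rw [smul_comm, hx a ha, smul_zero] }
  have hN : ∃ x ∈ N, x ∉ Ideal.span {t} • (⊤ : Submodule R M) := by
    by_contra hcon
    push Not at hcon
    have hle : N ≤ Ideal.span {t} • N := fun x hx => by
      have h1 := hcon x hx
      rw [Submodule.ideal_span_singleton_smul, Submodule.mem_smul_pointwise_iff_exists] at h1
      obtain ⟨y, -, hy⟩ := h1
      rw [Submodule.ideal_span_singleton_smul, Submodule.mem_smul_pointwise_iff_exists]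
      refine ⟨y, fun a ha => hreg ?_, hy⟩
      show t • a • y = t • 0
      rw [smul_comm, hy, hx a ha, smul_zero]
    have hbot : N = ⊥ := Submodule.eq_bot_of_le_smul_of_le_jacobson_bot _ _ (IsNoetherian.noetherian N) hle
      (((Ideal.span_singleton_le_iff_mem _).2 ht).trans (maximalIdeal_le_jacobson _))
    obtain ⟨hpP, x, hx⟩ := isAssociatedPrime_iff.1 hp
    have hxN : x ∈ N := fun a ha => by
      rw [hx, Submodule.mem_colon_singleton, Submodule.mem_bot] at ha
      exact ha
    rw [hbot, Submodule.mem_bot] at hxN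
    refine hpP.ne_top ?_
    rw [hx, hxN]
    exact eq_top_iff.2 fun r _ => Submodule.mem_colon_singleton.2 (by simp)
  obtain ⟨x, hxN, hxt⟩ := hN
  let xb : M ⧸ Ideal.span {t} • (⊤ : Submodule R M) := Submodule.Quotient.mk x
  let W : Submodule R (M ⧸ Ideal.span {t} • (⊤ : Submodule R M)) := Submodule.span R {xb}
  haveI : Nontrivial W := nontrivial_of_ne (⟨xb, Submodule.mem_span_singleton_self _⟩ : W) 0 fun h =>
    hxt ((Submodule.Quotient.mk_eq_zero _).1 (congrArg Subtype.val h))
  obtain ⟨Q, hQ⟩ := associatedPrimes.nonempty R W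
  obtain ⟨hQP, ⟨w, hw⟩, hQw⟩ := isAssociatedPrime_iff.1 hQ
  obtain ⟨c, rfl⟩ := Submodule.mem_span_singleton.1 hw
  have hkill : ∀ a ∈ p ⊔ Ideal.span {t}, a ∈ Q := fun a ha => by
    rw [hQw, Submodule.mem_colon_singleton, Submodule.mem_bot]
    refine Subtype.ext ?_
    show a • c • xb = 0
    obtain ⟨b, hb, d, hd, rfl⟩ := Submodule.mem_sup.1 ha
    rw [smul_comm, add_smul, ← Submodule.Quotient.mk_smul, hxN b hb, Submodule.Quotient.mk_zero, zero_add,
      ← Submodule.Quotient.mk_smul, (Submodule.Quotient.mk_eq_zero _).2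
        (Submodule.smul_mem_smul hd Submodule.mem_top), smul_zero]
  have hQm := hmin Q hQP (fun a ha => hkill a (Submodule.mem_sup_left ha))
    (hkill t (Submodule.mem_sup_right (Ideal.mem_span_singleton_self t)))
  exact hQm ▸ associatedPrimes.subset_of_injective W.injective_subtype hQ

variable {X Y : Scheme.{u}} (f : X ⟶ Y)

/-- The stalk on the fibre is `M / JM`. -/
theorem exists_fibre_semilinear (F : X.Modules) (s : Y) (w : ↥(f.fiber s)) :
    ∃ (σ : X.presheaf.stalk (f.fiberι s w) →+* (f.fiber s).presheaf.stalk w)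
      (_ : Function.Surjective σ)
      (e : (F.presheaf.stalk (f.fiberι s w) ⧸
          (Codepth5.fibIdeal f (f.fiberι s w) • ⊤ :
            Submodule (X.presheaf.stalk (f.fiberι s w)) (F.presheaf.stalk (f.fiberι s w)))) ≃+
        ((Scheme.Modules.pullback (f.fiberι s)).obj F).presheaf.stalk w),
      ∀ r x, e (r • x) = σ r • e x := by
  let ι := f.fiberι s
  let O := X.presheaf.stalk (ι w)
  let σ : O →+* (f.fiber s).presheaf.stalk w := (ι.stalkMap w).hom
  letI : Algebra O ((f.fiber s).presheaf.stalk w) := σ.toAlgebra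
  have hσ : Function.Surjective σ := ι.stalkMap_surjective w
  let J : Ideal O := Codepth5.fibIdeal f (ι w)
  have hJ : RingHom.ker σ = J := FlatDvr.ker_stalkMap_fiberι f w
  let e₀ : ((Scheme.Modules.pullback ι).obj F).presheaf.stalk w ≃ₗ[(f.fiber s).presheaf.stalk w]
      TensorProduct O ((f.fiber s).presheaf.stalk w) (F.presheaf.stalk (ι w)) :=
    ((KFlatLib.stalkPullbackIso ι w).app F).toLinearEquiv
  let e₁ : (O ⧸ J) ≃ₗ[O] (f.fiber s).presheaf.stalk w :=
    (Submodule.quotEquivOfEq J (LinearMap.ker (Algebra.linearMap O ((f.fiber s).presheaf.stalk w))) hJ.symm) ≪≫ₗ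
      (Algebra.linearMap O ((f.fiber s).presheaf.stalk w)).quotKerEquivOfSurjective hσ
  let e₂ := (TensorProduct.quotTensorEquivQuotSMul (F.presheaf.stalk (ι w)) J).symm ≪≫ₗ
    TensorProduct.congr e₁ (LinearEquiv.refl O (F.presheaf.stalk (ι w)))
  refine ⟨σ, hσ, e₂.toAddEquiv.trans e₀.symm.toAddEquiv, fun r x => ?_⟩
  show e₀.symm (e₂ (r • x)) = σ r • e₀.symm (e₂ x)
  rw [e₂.map_smul, show r • e₂ x = σ r • e₂ x from (algebraMap_smul ((f.fiber s).presheaf.stalk w) r (e₂ x)).symm,
    e₀.symm.map_smul]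

theorem length_of_semilinear {R S M N : Type u} [CommRing R] [CommRing S] [AddCommGroup M] [Module R M]
    [AddCommGroup N] [Module S N] (σ : R →+* S) (hσ : Function.Surjective σ) (e : M ≃+ N)
    (he : ∀ r x, e (r • x) = σ r • e x) : Module.length R M = Module.length S N := by
  letI : Algebra R S := σ.toAlgebra
  letI : Module R N := Module.compHom N σ
  haveI : IsScalarTower R S N := IsScalarTower.of_algebraMap_smul fun _ _ => rfl
  rw [← Module.length_eq_of_surjective (S := R) (R := S) hσ]
  exact LinearEquiv.length_eq ({ e with map_smul' := he } : M ≃ₗ[R] N)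

variable (F : X.Modules) (s : Y) (w : ↥(f.fiber s))

theorem length_fibre_stalk :
    Module.length ((f.fiber s).presheaf.stalk w) (((Scheme.Modules.pullback (f.fiberι s)).obj F).presheaf.stalk w) =
      Module.length (X.presheaf.stalk (f.fiberι s w)) (F.presheaf.stalk (f.fiberι s w) ⧸
        (Codepth5.fibIdeal f (f.fiberι s w) • ⊤ :
          Submodule (X.presheaf.stalk (f.fiberι s w)) (F.presheaf.stalk (f.fiberι s w)))) := by
  obtain ⟨σ, hσ, e, he⟩ := exists_fibre_semilinear f F s w
  exact (length_of_semilinear σ hσ e he).symm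

theorem fibIdeal_le (x : X) : Codepth5.fibIdeal f x ≤ maximalIdeal (X.presheaf.stalk x) := by
  refine Ideal.map_le_iff_le_comap.2 fun a ha => ?_
  exact map_nonunit (f.stalkMap x).hom a ha

theorem nontrivial_fibre_stalk [IsLocallyNoetherian X] (hF : Coh.IsCoh F) :
    Nontrivial (((Scheme.Modules.pullback (f.fiberι s)).obj F).presheaf.stalk w) ↔
      f.fiberι s w ∈ CohB1.support F := by
  obtain ⟨σ, hσ, e, he⟩ := exists_fibre_semilinear f F s w
  haveI := QCoh.finite_stalk_of_isFT hF.1 hF.2 (f.fiberι s w)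
  rw [← e.toEquiv.nontrivial_congr, Submodule.Quotient.nontrivial_iff]
  constructor
  · intro h hs
    haveI := hs
    exact h (Subsingleton.elim _ _)
  · intro h htop
    apply h
    have h0 : (⊤ : Submodule (X.presheaf.stalk (f.fiberι s w)) (F.presheaf.stalk (f.fiberι s w))) = ⊥ :=
      Submodule.eq_bot_of_le_smul_of_le_jacobson_bot _ _ Module.Finite.fg_top htop.ge
        ((fibIdeal_le f _).trans (maximalIdeal_le_jacobson _))
    exact (Submodule.subsingleton_iff _).1 (subsingleton_of_bot_eq_top h0.symm)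

theorem mem_ass_fibre [IsLocallyNoetherian X] [IsLocallyNoetherian (f.fiber s)]
    (h : maximalIdeal (X.presheaf.stalk (f.fiberι s w)) ∈ associatedPrimes (X.presheaf.stalk (f.fiberι s w))
      (F.presheaf.stalk (f.fiberι s w) ⧸ (Codepth5.fibIdeal f (f.fiberι s w) • ⊤ :
          Submodule (X.presheaf.stalk (f.fiberι s w)) (F.presheaf.stalk (f.fiberι s w))))) :
    w ∈ AssSch.Ass ((Scheme.Modules.pullback (f.fiberι s)).obj F) := by
  obtain ⟨σ, hσ, e, he⟩ := exists_fibre_semilinear f F s w
  obtain ⟨-, m, hm⟩ := isAssociatedPrime_iff.1 h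
  haveI : IsLocalHom σ := IsLocalHom.of_surjective σ hσ
  rw [AssLib.mem_ass_def]
  refine isAssociatedPrime_iff.2 ⟨inferInstance, e m, Ideal.ext fun r' => ?_⟩
  obtain ⟨r, rfl⟩ := hσ r'
  rw [Submodule.mem_colon_singleton, Submodule.mem_bot, ← he, map_eq_zero_iff e e.injective,
    ← Submodule.mem_bot (R := X.presheaf.stalk (f.fiberι s w)), ← Submodule.mem_colon_singleton, ← hm]
  exact ⟨fun h hu => h (hu.map σ), fun h hu => h (isUnit_of_map_unit σ r hu)⟩

/-- Lengths at the generisations which are maximal points of the support. -/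
theorem sum_length_le [IsLocallyNoetherian X] (hF : Coh.IsCoh F) {x : X} {t : X.presheaf.stalk x}
    (ht : t ∈ maximalIdeal (X.presheaf.stalk x)) {α : Type u} (S : Finset α) (g : α → X) (hg : ∀ a ∈ S, g a ⤳ x)
    (hinj : Set.InjOn g S) (hne : ∀ a ∈ S, g a ≠ x)
    (hsupp : ∀ a ∈ S, g a ∈ CohB1.support F) (hmax : ∀ a ∈ S, ∀ v ∈ CohB1.support F, v ⤳ g a → v = g a) :
    ∑ a ∈ S, Module.length (X.presheaf.stalk (g a)) (F.presheaf.stalk (g a)) ≤
      Module.length (X.presheaf.stalk x) (F.presheaf.stalk x ⧸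
        (Ideal.span {t} • ⊤ : Submodule (X.presheaf.stalk x) (F.presheaf.stalk x))) := by
  classical
  rcases S.eq_empty_or_nonempty with rfl | ⟨a₀, ha₀⟩
  · rw [Finset.sum_empty]; exact bot_le
  rcases eq_or_ne (Module.length (X.presheaf.stalk x) (F.presheaf.stalk x ⧸
      (Ideal.span {t} • ⊤ : Submodule (X.presheaf.stalk x) (F.presheaf.stalk x)))) ⊤ with htop | htop
  · rw [htop]; exact le_top
  let R := X.presheaf.stalk x
  let M := F.presheaf.stalk x
  haveI := QCoh.finite_stalk_of_isFT hF.1 hF.2 x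
  have hlen : ∀ {z : X} (h : z ⤳ x), Module.length (Localization.AtPrime (primeOf h).asIdeal)
      (LocalizedModule (primeOf h).asIdeal.primeCompl M) =
        Module.length (X.presheaf.stalk z) (F.presheaf.stalk z) := fun h => H23.CapSheaf.length_stalk_eq hF.1 h
  have hsupp' : ∀ {z : X} (h : z ⤳ x), primeOf h ∈ Module.support R M ↔ z ∈ CohB1.support F := fun {z} h => by
    show _ ↔ ¬ Subsingleton _
    rw [← Module.length_eq_zero_iff (R := X.presheaf.stalk z), ← hlen h, Module.length_eq_zero_iff,
      not_subsingleton_iff_nontrivial, Module.mem_support_iff]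
  have hmin : ∀ a (ha : a ∈ S), (primeOf (hg a ha)).asIdeal ∈ (Module.annihilator R M).minimalPrimes :=
    fun a ha => by
    refine ⟨⟨(primeOf (hg a ha)).2, Module.annihilator_le_of_mem_support ((hsupp' _).2 (hsupp a ha))⟩,
      fun q hq hle => ?_⟩
    haveI := hq.1
    obtain ⟨v, hv, rfl⟩ := H23.StalkPrimes.exists_point q
    have hvs : v ∈ CohB1.support F := (hsupp' hv).1 (by
      rw [Module.support_eq_zeroLocus]; exact hq.2)
    obtain rfl := hmax a ha v hvs ((H23.StalkPrimes.primeOf_le_iff (hg a ha) hv).1 hle)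
    exact le_rfl
  have hdim : 0 < Module.supportDim R M := by
    have hp : (primeOf (hg a₀ ha₀)).asIdeal ≠ maximalIdeal R := fun e => hne a₀ ha₀ <| by
      have h2 : (primeOf (specializes_refl x)).asIdeal = maximalIdeal R := H23.ZeroSec.primeOf_refl' x
      exact H23.StalkPrimes.primeOf_inj (hg a₀ ha₀) (specializes_refl x) (e.trans h2.symm)
    have hlt : primeOf (hg a₀ ha₀) < closedPoint R :=
      lt_of_le_of_ne (le_maximalIdeal (primeOf (hg a₀ ha₀)).2.ne_top) fun e => hp (congrArg PrimeSpectrum.asIdeal e)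
    haveI : Nontrivial M := by
      by_contra hn
      rw [not_nontrivial_iff_subsingleton] at hn
      have := (hsupp' (hg a₀ ha₀)).2 (hsupp a₀ ha₀)
      rw [Module.support_eq_empty] at this
      exact this
    exact Order.krullDim_pos_iff.2 ⟨⟨_, (hsupp' _).2 (hsupp a₀ ha₀)⟩,
      ⟨closedPoint R, closedPoint_mem_support R M⟩, hlt⟩
  refine le_trans ?_ (LenIneq5.length_support t ht hdim htop).1
  haveI : Fintype (Module.annihilator R M).minimalPrimes :=
    ((Module.annihilator R M).finite_minimalPrimes_of_isNoetherianRing R).fintype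
  rw [finsum_eq_sum_of_fintype, ← Finset.sum_attach]
  let e : {a // a ∈ S} → (Module.annihilator R M).minimalPrimes := fun a => ⟨_, hmin a.1 a.2⟩
  have he : Function.Injective e := fun a b h =>
    Subtype.ext (hinj a.2 b.2 (H23.StalkPrimes.primeOf_inj (hg _ a.2) (hg _ b.2) (congrArg Subtype.val h)))
  calc ∑ a ∈ S.attach, Module.length (X.presheaf.stalk (g a.1)) (F.presheaf.stalk (g a.1))
      = ∑ q ∈ S.attach.image e, haveI : q.1.IsPrime := q.2.1.1
          Module.length (Localization.AtPrime q.1) (LocalizedModule q.1.primeCompl M) := by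
        rw [Finset.sum_image fun a _ b _ h => he h]
        exact Finset.sum_congr rfl fun a _ => (hlen (hg a.1 a.2)).symm
    _ ≤ _ := Finset.sum_le_sum_of_subset (Finset.subset_univ _)

end Groth.Agent.H1SumLen
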